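import Cfsg.Agent.Lib.InvChar.SporData.J3P3121.F0

set_option autoImplicit false
set_option maxRecDepth 100000

namespace CfsgLib.InvChar.Coset.J3P3121

theorem facts_ok : ∀ j < 49, cert.chkRun 128 (j * 128) (cert.just.get j) = true := by
  intro j hj
  rcases Nat.lt_or_ge j 49 with h0 | h0
  · obtain ⟨i, rfl⟩ : ∃ i, j = 0 + i := ⟨j - 0, by omega⟩
    exact chkBlocks_get (D := cert) 49 0 chk_facts0 i (by omega)
  omega

theorem goal_ok : cert.chkGoal 6263 13 0x1871018730184d0172001817018740185d0179d017ca017fd018760000100000 [3, 2] = true := by decide +kernel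

/-- The goal word lies in every subgroup containing the subgroup words. -/
theorem mem {G : Type*} [Group G] (s : ℕ → G) (hs : ∀ x, s x * s x = 1)
    (hR : ∀ r ∈ rels, wprod s r = 1) (H : Subgroup G) (hS : ∀ r ∈ subs, wprod s r ∈ H) :
    wprod s [3, 2] ∈ H :=
  mem_of_goal hs (fun r hr => holds_of_blocks hs hR hS 49 (by decide +kernel) facts_ok r hr) goal_ok

end CfsgLib.InvChar.Coset.J3P3121
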